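import Groth.Agent.AlgSp2.PushThick.Space
import Groth.Agent.AlgSpBasic.Quotient
import Groth.Agent.AlgSpBasic.ImmersionDescent
import Groth.Agent.AlgSpThick.EtSite
import Groth.Agent.AlgSp2.MiscLowRows

/-!
# Construction of pushouts of algebraic spaces along thickenings and affine morphisms
-/

set_option autoImplicit false
set_option backward.isDefEq.respectTransparency.types false
set_option linter.style.haveILetI false

universe u

open CategoryTheory CategoryTheory.Limits AlgebraicGeometry AlgSp Groth.AlgSpBasic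

noncomputable section

namespace Groth.AlgSp2.PushThick

/-- Base change of a kernel pair along a cartesian square. -/
theorem isPullback_kernelPair {C : Type*} [Category C] {U U' X X' R R' : C} {i : U ⟶ U'}
    {q : U ⟶ X} {q' : U' ⟶ X'} {t : X ⟶ X'} (sq : IsPullback i q q' t) {s s' : R ⟶ U}
    (sqR : IsPullback s s' q q) {σ σ' : R' ⟶ U'} (sqR' : IsPullback σ σ' q' q') (m : R ⟶ R')
    (hm₁ : m ≫ σ = s ≫ i) (hm₂ : m ≫ σ' = s' ≫ i) :
    IsPullback m s σ i ∧ IsPullback m s' σ' i := by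
  constructor
  · refine IsPullback.of_right ?_ hm₁ sqR'.flip
    rw [hm₂, sq.w]
    exact sqR.flip.paste_horiz sq
  · refine IsPullback.of_right ?_ hm₂ sqR'
    rw [hm₁, sq.w]
    exact sqR.paste_horiz sq

variable {S : Scheme.{u}}

theorem IsCov.of_isPullback {F G F' G' : Sp S} {q : F ⟶ G} {q' : F' ⟶ G'} {a : F' ⟶ F}
    {b : G' ⟶ G} (sq : IsPullback a q' q b) (h : IsCov q) : IsCov q' :=
  ⟨repWith_of_isPullback sq h.et, repWith_of_isPullback sq h.surj⟩

theorem isUH_thick {X X' : Sp S} {t : X ⟶ X'} (ht : IsThickMor t) : RepWith @Surjective t :=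
  repWith_mono (fun _ _ g (hg : thick g) => hg.2) ht

/-- Etale charts lift along thickenings. -/
theorem exists_lift_cov {X X' : Sp S} {t : X ⟶ X'} (ht : IsThickMor t) (hX : IsAlgSpace X)
    (hX' : IsAlgSpace X') {U : Over S} {q : (yon S).obj U ⟶ X} (hq : RepWith @Etale q) :
    ∃ (U' : Over S) (i : U ⟶ U') (q' : (yon S).obj U' ⟶ X'),
      IsPullback ((yon S).map i) q q' t ∧ RepWith @Etale q' ∧
        (RepWith @Surjective q → RepWith @Surjective q') := by
  obtain ⟨V', a, c, hV', ha, sq⟩ := Groth.AlgSpEt.UH.exists_descend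
    (Groth.AlgSpThick.isUH_of_thick ht) hX' hX (IsAlgSpace.yon_obj U)
    (AlgSp.isEtaleMor_of_repWith _ hq)
  obtain ⟨T', ⟨e⟩⟩ := Groth.AlgSpThick.exists_iso_yon_of_thick hV' (i := c)
    (repWith_of_isPullback sq ht)
  obtain ⟨i, hi⟩ := (yon S).map_surjective (c ≫ e.inv)
  have sq' : IsPullback ((yon S).map i) q (e.hom ≫ a) t := by
    rw [hi]
    exact sq.flip.of_iso (Iso.refl _) e.symm (Iso.refl _) (Iso.refl _) (by simp) (by simp)
      (by simp) (by simp)
  have hq' : RepWith @Etale (e.hom ≫ a) := ha e.hom (repWith_isIso e.hom)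
  refine ⟨T', i, _, sq', hq', fun hs => repWith_surjective_of_ofPt hq'.rep fun x => ?_⟩
  obtain ⟨u, hu⟩ := surjective_ofPt_of_repWith (repWith_comp hs (isUH_thick ht)) x
  exact ⟨i.left u, by rw [← ofPt_comp_yon, sq'.w, hu]⟩

/-- Charts of a thickening and an affine morphism with the same source. -/
structure Chart {X X' Y : Sp S} (t : X ⟶ X') (f : X ⟶ Y) where
  /-- chart of `X` -/
  U : Over S
  /-- chart of `X'` -/
  U' : Over S
  /-- chart of `Y` -/
  V : Over S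
  i : U ⟶ U'
  j : U ⟶ V
  qX : (yon S).obj U ⟶ X
  qX' : (yon S).obj U' ⟶ X'
  qY : (yon S).obj V ⟶ Y
  sqT : IsPullback ((yon S).map i) qX qX' t
  sqF : IsPullback ((yon S).map j) qX qY f
  covX : IsCov qX
  covX' : IsCov qX'
  covY : IsCov qY

theorem exists_chart_of_cov {X X' Y : Sp S} (t : X ⟶ X') (f : X ⟶ Y) (ht : IsThickMor t)
    (hf : IsAffineMor f) (hX : IsAlgSpace X) (hX' : IsAlgSpace X') {V : Over S}
    (qY : (yon S).obj V ⟶ Y) (hq : IsCov qY) :
    ∃ C : Chart t f, ∃ e : C.V = V, (yon S).map (eqToHom e) ≫ qY = C.qY := by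
  obtain ⟨U, j, qX, sq⟩ := (isAffineMor_iff_repWith.1 hf).rep qY
  have hqX : IsCov qX := IsCov.of_isPullback sq.flip hq
  obtain ⟨U', i, qX', sqT, he, hs⟩ := exists_lift_cov ht hX hX' hqX.et
  exact ⟨⟨U, U', V, i, j, qX, qX', qY, sqT, sq.flip, hqX, ⟨he, hs hqX.surj⟩, hq⟩, rfl, by simp⟩

namespace Chart

variable {X X' Y : Sp S} {t : X ⟶ X'} {f : X ⟶ Y}

theorem thick_i (C : Chart t f) (ht : IsThickMor t) : thick C.i.left :=
  (repWith_yon_map_iff thick C.i).1 (repWith_of_isPullback C.sqT.flip ht)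

theorem affine_j (C : Chart t f) (hf : IsAffineMor f) : IsAffineHom C.j.left :=
  (repWith_yon_map_iff @IsAffineHom C.j).1
    (repWith_of_isPullback C.sqF.flip (isAffineMor_iff_repWith.1 hf))

end Chart

/-- The self intersections of a chart. -/
structure Inter {X X' Y : Sp S} {t : X ⟶ X'} {f : X ⟶ Y} (C : Chart t f) where
  RX : Over S
  RX' : Over S
  RY : Over S
  sU : RX ⟶ C.U
  tU : RX ⟶ C.U
  sX : RX' ⟶ C.U'
  tX : RX' ⟶ C.U'
  sY : RY ⟶ C.V
  tY : RY ⟶ C.V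
  iR : RX ⟶ RX'
  jR : RX ⟶ RY
  sqU : IsPullback ((yon S).map sU) ((yon S).map tU) C.qX C.qX
  sqX : IsPullback ((yon S).map sX) ((yon S).map tX) C.qX' C.qX'
  sqY : IsPullback ((yon S).map sY) ((yon S).map tY) C.qY C.qY
  wiS : IsPullback sU iR C.i sX
  wiT : IsPullback tU iR C.i tX
  wjS : IsPullback sU jR C.j sY
  wjT : IsPullback tU jR C.j tY

theorem nonempty_inter {X X' Y : Sp S} {t : X ⟶ X'} {f : X ⟶ Y} (C : Chart t f) :
    Nonempty (Inter C) := by
  obtain ⟨RX, sU, tU, sqU⟩ := exists_pullback_yon C.covX.et.rep C.qX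
  obtain ⟨RX', sX, tX, sqX⟩ := exists_pullback_yon C.covX'.et.rep C.qX'
  obtain ⟨RY, sY, tY, sqY⟩ := exists_pullback_yon C.covY.et.rep C.qY
  obtain ⟨iR, hiR⟩ := (yon S).map_surjective (sqX.lift ((yon S).map sU ≫ (yon S).map C.i)
    ((yon S).map tU ≫ (yon S).map C.i)
    (by rw [Category.assoc, Category.assoc, C.sqT.w, ← Category.assoc, sqU.w, Category.assoc]))
  obtain ⟨jR, hjR⟩ := (yon S).map_surjective (sqY.lift ((yon S).map sU ≫ (yon S).map C.j)
    ((yon S).map tU ≫ (yon S).map C.j)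
    (by rw [Category.assoc, Category.assoc, C.sqF.w, ← Category.assoc, sqU.w, Category.assoc]))
  obtain ⟨a₁, a₂⟩ := isPullback_kernelPair C.sqT sqU sqX ((yon S).map iR)
    (by rw [hiR, sqX.lift_fst]) (by rw [hiR, sqX.lift_snd])
  obtain ⟨b₁, b₂⟩ := isPullback_kernelPair C.sqF sqU sqY ((yon S).map jR)
    (by rw [hjR, sqY.lift_fst]) (by rw [hjR, sqY.lift_snd])
  exact ⟨⟨RX, RX', RY, sU, tU, sX, tX, sY, tY, iR, jR, sqU, sqX, sqY,
    (isPullback_of_yon a₁).flip, (isPullback_of_yon a₂).flip, (isPullback_of_yon b₁).flip,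
    (isPullback_of_yon b₂).flip⟩⟩

theorem exists_pair {R U : Over S} {F : Sp S} {q : (yon S).obj U ⟶ F} {s t : R ⟶ U}
    (sq : IsPullback ((yon S).map s) ((yon S).map t) q q) {T : Over S} (a b : T ⟶ U)
    (h : (yon S).map a ≫ q = (yon S).map b ≫ q) : ∃ r : T ⟶ R, r ≫ s = a ∧ r ≫ t = b := by
  obtain ⟨r, hr⟩ := (yon S).map_surjective (sq.lift _ _ h)
  exact ⟨r, (yon S).map_injective (by rw [Functor.map_comp, hr, sq.lift_fst]),
    (yon S).map_injective (by rw [Functor.map_comp, hr, sq.lift_snd])⟩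

/-- The main output: a square with an atlas, together with all the cartesian squares. -/
theorem exists_pushout {X X' Y : Sp S} {t : X ⟶ X'} {f : X ⟶ Y} (ht : IsThickMor t)
    (hf : IsAffineMor f) (C : Chart t f) :
    ∃ (Y' : Sp S) (f' : X' ⟶ Y') (t' : Y ⟶ Y') (V' : Over S) (a : C.U' ⟶ V') (b : C.V ⟶ V')
      (π : (yon S).obj V' ⟶ Y'), IsAlgSpace Y' ∧ IsThickMor t' ∧
        SqAtlas t f f' t' C.i C.j a b C.qX C.qX' C.qY π ∧
        IsPullback ((yon S).map a) C.qX' π f' ∧ IsPullback ((yon S).map b) C.qY π t' := by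
  obtain ⟨I⟩ := nonempty_inter C
  have hi : thick C.i.left := C.thick_i ht
  haveI : IsAffineHom C.j.left := C.affine_j hf
  obtain ⟨V', a, b, hV, hb, -⟩ := IsTP.exists_of C.i C.j hi
  have hiR : thick I.iR.left := MorphismProperty.of_isPullback (isPullback_left I.wiS) hi
  haveI : IsAffineHom I.jR.left :=
    MorphismProperty.of_isPullback (isPullback_left I.wjS) ‹IsAffineHom C.j.left›
  obtain ⟨RV, aR, bR, hR, hbR, -⟩ := IsTP.exists_of I.iR I.jR hiR
  let s : RV ⟶ V' := hR.push.desc (I.sX ≫ a) (I.sY ≫ b) (by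
    rw [← reassoc_of% I.wiS.w, ← reassoc_of% I.wjS.w, hV.push.w])
  let τ : RV ⟶ V' := hR.push.desc (I.tX ≫ a) (I.tY ≫ b) (by
    rw [← reassoc_of% I.wiT.w, ← reassoc_of% I.wjT.w, hV.push.w])
  have hsa : aR ≫ s = I.sX ≫ a := hR.push.inl_desc _ _ _
  have hsb : bR ≫ s = I.sY ≫ b := hR.push.inr_desc _ _ _
  have hta : aR ≫ τ = I.tX ≫ a := hR.push.inl_desc _ _ _
  have htb : bR ≫ τ = I.tY ≫ b := hR.push.inr_desc _ _ _
  have rS : Rel C.i C.j a b I.iR I.jR aR bR I.sU I.sX I.sY s := ⟨hV, hR, I.wiS, I.wjS, hsa, hsb⟩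
  have rT : Rel C.i C.j a b I.iR I.jR aR bR I.tU I.tX I.tY τ := ⟨hV, hR, I.wiT, I.wjT, hta, htb⟩
  haveI : Etale s.left := rS.etale_iff.2 ⟨repWith_fst_of_isPullback I.sqY.flip C.covY.et,
    repWith_fst_of_isPullback I.sqX.flip C.covX'.et⟩
  haveI : Etale τ.left := rT.etale_iff.2 ⟨repWith_fst_of_isPullback I.sqY C.covY.et,
    repWith_fst_of_isPullback I.sqX C.covX'.et⟩
  haveI : Mono b := hV.mono_inr
  have jm : ∀ {T : Over S} (r r' : T ⟶ RV), r ≫ s = r' ≫ s → r ≫ τ = r' ≫ τ → r = r' :=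
    fun r r' h₁ h₂ => jointlyMono_of_thick bR b hbR hsb htb
      (fun r r' e₁ e₂ => (yon S).map_injective (I.sqY.hom_ext
        (by rw [← Functor.map_comp, ← Functor.map_comp, e₁])
        (by rw [← Functor.map_comp, ← Functor.map_comp, e₂]))) r r' h₁ h₂
  -- maps into the relation glue over pushouts
  have glue : ∀ {Z A B P : Over S} {i₀ : Z ⟶ A} {j₀ : Z ⟶ B} {a₀ : A ⟶ P} {b₀ : B ⟶ P}
      (_ : IsTP i₀ j₀ a₀ b₀) (u v : P ⟶ V') (mA : A ⟶ RV) (mB : B ⟶ RV),
      mA ≫ s = a₀ ≫ u → mA ≫ τ = a₀ ≫ v → mB ≫ s = b₀ ≫ u → mB ≫ τ = b₀ ≫ v →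
      ∃ m : P ⟶ RV, m ≫ s = u ∧ m ≫ τ = v := by
    intro Z A B P i₀ j₀ a₀ b₀ hP u v mA mB h₁ h₂ h₃ h₄
    have e : i₀ ≫ mA = j₀ ≫ mB := jm _ _
      (by rw [Category.assoc, h₁, Category.assoc, h₃, reassoc_of% hP.push.w])
      (by rw [Category.assoc, h₂, Category.assoc, h₄, reassoc_of% hP.push.w])
    exact ⟨hP.push.desc mA mB e,
      hP.push.hom_ext (by rw [hP.push.inl_desc_assoc, h₁]) (by rw [hP.push.inr_desc_assoc, h₃]),
      hP.push.hom_ext (by rw [hP.push.inl_desc_assoc, h₂]) (by rw [hP.push.inr_desc_assoc, h₄])⟩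
  obtain ⟨e, he₁, he₂⟩ : ∃ m : V' ⟶ RV, m ≫ s = 𝟙 V' ∧ m ≫ τ = 𝟙 V' := by
    obtain ⟨x, hx₁, hx₂⟩ := exists_pair I.sqX (𝟙 _) (𝟙 _) rfl
    obtain ⟨y, hy₁, hy₂⟩ := exists_pair I.sqY (𝟙 _) (𝟙 _) rfl
    refine glue hV _ _ (x ≫ aR) (y ≫ bR) ?_ ?_ ?_ ?_
    · rw [Category.assoc, hsa, reassoc_of% hx₁, Category.comp_id]
    · rw [Category.assoc, hta, reassoc_of% hx₂, Category.comp_id]
    · rw [Category.assoc, hsb, reassoc_of% hy₁, Category.comp_id]
    · rw [Category.assoc, htb, reassoc_of% hy₂, Category.comp_id]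
  obtain ⟨σ, hσ₁, hσ₂⟩ : ∃ m : RV ⟶ RV, m ≫ s = τ ∧ m ≫ τ = s := by
    obtain ⟨x, hx₁, hx₂⟩ := exists_pair I.sqX I.tX I.sX (by
      rw [I.sqX.w])
    obtain ⟨y, hy₁, hy₂⟩ := exists_pair I.sqY I.tY I.sY (by rw [I.sqY.w])
    refine glue hR _ _ (x ≫ aR) (y ≫ bR) ?_ ?_ ?_ ?_
    · rw [Category.assoc, hsa, reassoc_of% hx₁, hta]
    · rw [Category.assoc, hta, reassoc_of% hx₂, hsa]
    · rw [Category.assoc, hsb, reassoc_of% hy₁, htb]
    · rw [Category.assoc, htb, reassoc_of% hy₂, hsb]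
  obtain ⟨μ, hμ₁, hμ₂⟩ : ∃ m : pullback τ s ⟶ RV,
      m ≫ s = pullback.fst τ s ≫ s ∧ m ≫ τ = pullback.snd τ s ≫ τ := by
    let c : pullback τ s ⟶ V' := pullback.fst τ s ≫ τ
    haveI : Etale c.left := by
      have h2 := isPullback_left ((IsPullback.of_hasPullback τ s).map (yon S) |> isPullback_of_yon)
      haveI : Etale (pullback.fst τ s).left := MorphismProperty.of_isPullback h2.flip ‹Etale s.left›
      rw [Over.comp_left]
      infer_instance
    have hA := IsPullback.of_hasPullback a c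
    have hB := IsPullback.of_hasPullback b c
    have hZ := IsPullback.of_hasPullback C.i (pullback.fst a c)
    let jP : pullback C.i (pullback.fst a c) ⟶ pullback b c := hB.lift
      (pullback.fst C.i (pullback.fst a c) ≫ C.j)
      (pullback.snd C.i (pullback.fst a c) ≫ pullback.snd a c)
      (by rw [Category.assoc, Category.assoc, ← pullback.condition, ← hV.push.w,
        reassoc_of% hZ.w])
    have hP : IsTP (pullback.snd C.i (pullback.fst a c)) jP (pullback.snd a c) (pullback.snd b c) :=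
      hV.of_flat hA hB hZ (hB.lift_fst _ _ _) (hB.lift_snd _ _ _).symm
    have cA : pullback.fst a c ≫ a = (pullback.snd a c ≫ pullback.fst τ s) ≫ τ := by
      rw [Category.assoc]; exact pullback.condition
    have cA' : pullback.fst a c ≫ a = (pullback.snd a c ≫ pullback.snd τ s) ≫ s := by
      rw [cA, Category.assoc, Category.assoc, pullback.condition]
    have cB : pullback.fst b c ≫ b = (pullback.snd b c ≫ pullback.fst τ s) ≫ τ := by
      rw [Category.assoc]; exact pullback.condition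
    have cB' : pullback.fst b c ≫ b = (pullback.snd b c ≫ pullback.snd τ s) ≫ s := by
      rw [cB, Category.assoc, Category.assoc, pullback.condition]
    obtain ⟨x₁, hx₁, hx₁'⟩ := rT.isPullback_inl.exists_lift _ _ cA
    obtain ⟨x₂, hx₂, hx₂'⟩ := rS.isPullback_inl.exists_lift _ _ cA'
    obtain ⟨y₁, hy₁, hy₁'⟩ := rT.isPullback_inr.exists_lift _ _ cB
    obtain ⟨y₂, hy₂, hy₂'⟩ := rS.isPullback_inr.exists_lift _ _ cB'
    obtain ⟨x, hx, hx'⟩ := exists_pair I.sqX (x₁ ≫ I.sX) (x₂ ≫ I.tX) (by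
      rw [Functor.map_comp, Category.assoc, I.sqX.w, ← Category.assoc, ← Functor.map_comp, hx₁,
        ← hx₂, Functor.map_comp, Category.assoc, I.sqX.w, ← Category.assoc, ← Functor.map_comp])
    obtain ⟨y, hy, hy'⟩ := exists_pair I.sqY (y₁ ≫ I.sY) (y₂ ≫ I.tY) (by
      rw [Functor.map_comp, Category.assoc, I.sqY.w, ← Category.assoc, ← Functor.map_comp, hy₁,
        ← hy₂, Functor.map_comp, Category.assoc, I.sqY.w, ← Category.assoc, ← Functor.map_comp])
    refine glue hP _ _ (x ≫ aR) (y ≫ bR) ?_ ?_ ?_ ?_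
    · rw [Category.assoc, hsa, reassoc_of% hx, ← hsa, reassoc_of% hx₁']
    · rw [Category.assoc, hta, reassoc_of% hx', ← hta, reassoc_of% hx₂']
    · rw [Category.assoc, hsb, reassoc_of% hy, ← hsb, reassoc_of% hy₁']
    · rw [Category.assoc, htb, reassoc_of% hy', ← htb, reassoc_of% hy₂']
  have hrel : IsEqvRel τ s := by
    refine ⟨fun T r r' h₁ h₂ => jm r r' h₁ h₂, fun T => ⟨fun x => ⟨x ≫ e, ?_, ?_⟩, ?_, ?_⟩⟩
    · rw [Category.assoc, he₁, Category.comp_id]
    · rw [Category.assoc, he₂, Category.comp_id]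
    · rintro x y ⟨r, h₁, h₂⟩
      exact ⟨r ≫ σ, by rw [Category.assoc, hσ₁, h₂], by rw [Category.assoc, hσ₂, h₁]⟩
    · rintro x y z ⟨r, h₁, h₂⟩ ⟨r', h₁', h₂'⟩
      refine ⟨pullback.lift r r' (h₂.trans h₁'.symm) ≫ μ, ?_, ?_⟩
      · rw [Category.assoc, hμ₁, pullback.lift_fst_assoc, h₁]
      · rw [Category.assoc, hμ₂, pullback.lift_snd_assoc, h₂']
  let Y' : Sp S := QuotSh.quot Scheme.fppfPrecoverage τ s
  let π : (yon S).obj V' ⟶ Y' := yonQuotπ τ s
  have sqV : IsPullback ((yon S).map s) ((yon S).map τ) π π := isPullback_yonQuot hrel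
  haveI : Sheaf.IsLocallySurjective π := isLocallySurjective_yonQuotπ τ s
  obtain ⟨hY', hπe, hπs⟩ := isAlgSpace_of_kernelPair sqV
  obtain ⟨f', hf'⟩ := C.covX'.exists_desc I.sqX ((yon S).map a ≫ π) (by
    rw [← Functor.map_comp_assoc, ← Functor.map_comp_assoc, ← hsa, ← hta, Functor.map_comp,
      Functor.map_comp, Category.assoc, Category.assoc, sqV.w])
  obtain ⟨t', ht'⟩ := C.covY.exists_desc I.sqY ((yon S).map b ≫ π) (by
    rw [← Functor.map_comp_assoc, ← Functor.map_comp_assoc, ← hsb, ← htb, Functor.map_comp,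
      Functor.map_comp, Category.assoc, Category.assoc, sqV.w])
  have hX' : IsAlgSpace X' := isAlgSpace_of_chart C.covX'.et C.covX'.surj
  have hY : IsAlgSpace Y := isAlgSpace_of_chart C.covY.et C.covY.surj
  have sqA : IsPullback ((yon S).map a) C.qX' π f' := by
    refine isPullback_of_etale_surjective (IsAlgSpace.yon_obj C.U') hX' I.sqX hf' ?_
      (fun d => ?_) (AlgSp.isEtaleMor_of_repWith _ C.covX'.et)
    · rw [hf', ← Functor.map_comp, ← hsa, Functor.map_comp]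
      exact ((rT.isPullback_inl.flip.map (yon S)).paste_horiz sqV)
    · obtain ⟨u, rfl⟩ := surjective_ofPt_of_repWith C.covX'.surj d
      exact ⟨Points.ofScheme _ u, (ofPt_eq_map _ _).symm⟩
  have sqB : IsPullback ((yon S).map b) C.qY π t' := by
    refine isPullback_of_etale_surjective (IsAlgSpace.yon_obj C.V) hY I.sqY ht' ?_
      (fun d => ?_) (AlgSp.isEtaleMor_of_repWith _ C.covY.et)
    · rw [ht', ← Functor.map_comp, ← hsb, Functor.map_comp]
      exact ((rT.isPullback_inr.flip.map (yon S)).paste_horiz sqV)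
    · obtain ⟨u, rfl⟩ := surjective_ofPt_of_repWith C.covY.surj d
      exact ⟨Points.ofScheme _ u, (ofPt_eq_map _ _).symm⟩
  have hci : RepWith @IsClosedImmersion t' := repWith_isClosedImmersion_of_cover hY' hπe hπs sqB.flip
    ((repWith_yon_map_iff _ b).2 hb.1)
  refine ⟨Y', f', t', V', a, b, π, hY',
    repWith_inf_iff.2 ⟨hci, repWith_surjective_of_points hci.rep fun y => ?_⟩,
    ⟨hV, C.covX, C.covX', C.covY, ⟨hπe, hπs⟩, C.sqT.w, C.sqF.w, hf'.symm, ht'.symm⟩, sqA, sqB⟩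
  haveI := hb.2
  obtain ⟨v', rfl⟩ := surjective_ofPt_of_repWith hπs y
  obtain ⟨v, rfl⟩ := b.left.surjective v'
  exact ⟨Points.ofPt C.qY v, by rw [Points.map_ofPt, ht', ofPt_comp_yon]⟩

end Groth.AlgSp2.PushThick
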