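import Groth.Agent.AlgSp2.PushThick.Construct
import Groth.Agent.AlgSpBasic.LocPInst

/-!
# Pushouts of algebraic spaces along thickenings: universal property and relative charts
-/

set_option autoImplicit false
set_option backward.isDefEq.respectTransparency.types false
set_option linter.style.haveILetI false

universe u

open CategoryTheory CategoryTheory.Limits AlgebraicGeometry AlgSp Groth.AlgSpBasic

noncomputable section

namespace Groth.AlgSp2.PushThick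

variable {S : Scheme.{u}}

/-- A square with an atlas pulling back to atlases of the two pieces is a pushout. -/
theorem isPushout_of_cartesian {A₀ A₁ A₂ A₃ : AlgSp.Space S} (t : A₀ ⟶ A₁) (f : A₀ ⟶ A₂)
    (f' : A₁ ⟶ A₃) (t' : A₂ ⟶ A₃) {U U' V V' : Over S} {i : U ⟶ U'} {j : U ⟶ V} {a : U' ⟶ V'}
    {b : V ⟶ V'} {qX : (yon S).obj U ⟶ A₀.obj} {qX' : (yon S).obj U' ⟶ A₁.obj}
    {qY : (yon S).obj V ⟶ A₂.obj} {π : (yon S).obj V' ⟶ A₃.obj}
    (A : SqAtlas t.hom f.hom f'.hom t'.hom i j a b qX qX' qY π)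
    (sqA : IsPullback ((yon S).map a) qX' π f'.hom)
    (sqB : IsPullback ((yon S).map b) qY π t'.hom) : IsPushout t f f' t' := by
  obtain ⟨RV, s, τ, sq⟩ := exists_pullback_yon A.cov.et.rep π
  haveI : Etale s.left := repWith_fst_of_isPullback sq.flip A.cov.et
  have hA := IsPullback.of_hasPullback a s
  have hB := IsPullback.of_hasPullback b s
  have hZ := IsPullback.of_hasPullback i (pullback.fst a s)
  have hR := A.tp.of_flat hA hB hZ
    (hB.lift_fst (pullback.fst i (pullback.fst a s) ≫ j)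
      (pullback.snd i (pullback.fst a s) ≫ pullback.snd a s)
      (by rw [Category.assoc, Category.assoc, ← pullback.condition, ← A.tp.push.w,
        reassoc_of% hZ.w]))
    (hB.lift_snd _ _ _).symm
  have eA : (yon S).map (pullback.snd a s ≫ τ) ≫ π =
      ((yon S).map (pullback.fst a s) ≫ qX') ≫ f'.hom := by
    rw [Category.assoc, ← A.wa, ← Functor.map_comp_assoc, pullback.condition, Functor.map_comp,
      Category.assoc, ← sq.w, Functor.map_comp, Category.assoc]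
  have eB : (yon S).map (pullback.snd b s ≫ τ) ≫ π =
      ((yon S).map (pullback.fst b s) ≫ qY) ≫ t'.hom := by
    rw [Category.assoc, ← A.wb, ← Functor.map_comp_assoc, pullback.condition, Functor.map_comp,
      Category.assoc, ← sq.w, Functor.map_comp, Category.assoc]
  obtain ⟨tX, htX⟩ := (yon S).map_surjective (sqA.lift _ _ eA)
  obtain ⟨tY, htY⟩ := (yon S).map_surjective (sqB.lift _ _ eB)
  refine isPushout_of_atlas t f f' t' A hR (sX := pullback.fst a s) (tX := tX)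
    (sY := pullback.fst b s) (tY := tY) sq ?_ ?_ pullback.condition.symm ?_
    pullback.condition.symm ?_
  · rw [htX, sqA.lift_snd]
  · rw [htY, sqB.lift_snd]
  · exact (yon S).map_injective ((sqA.lift_fst _ _ eA).symm.trans (by rw [← htX, ← Functor.map_comp]))
  · exact (yon S).map_injective ((sqB.lift_fst _ _ eB).symm.trans (by rw [← htY, ← Functor.map_comp]))

/-- Pushouts of algebraic spaces along thickenings and affine morphisms exist. -/
theorem exists_isPushout {X X' Y : AlgSp.Space S} (t : X ⟶ X') (ht : IsThickMor t.hom) (f : X ⟶ Y)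
    (hf : IsAffineMor f.hom) (C : Chart t.hom f.hom) :
    ∃ (Y' : AlgSp.Space S) (f' : X' ⟶ Y') (t' : Y ⟶ Y') (V' : Over S) (a : C.U' ⟶ V')
      (b : C.V ⟶ V') (π : (yon S).obj V' ⟶ Y'.obj), IsPushout t f f' t' ∧ IsThickMor t'.hom ∧
        SqAtlas t.hom f.hom f'.hom t'.hom C.i C.j a b C.qX C.qX' C.qY π ∧
        IsPullback ((yon S).map a) C.qX' π f'.hom ∧ IsPullback ((yon S).map b) C.qY π t'.hom := by
  obtain ⟨Y', f', t', V', a, b, π, hY', ht', A, sqA, sqB⟩ := exists_pushout ht hf C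
  refine ⟨⟨Y', hY'⟩, ObjectProperty.homMk f', ObjectProperty.homMk t', V', a, b, π, ?_, ht', A,
    sqA, sqB⟩
  exact isPushout_of_cartesian t f (ObjectProperty.homMk f' : X' ⟶ ⟨Y', hY'⟩)
    (ObjectProperty.homMk t' : Y ⟶ ⟨Y', hY'⟩) A sqA sqB

theorem exists_chart {X X' Y : AlgSp.Space S} (t : X ⟶ X') (ht : IsThickMor t.hom) (f : X ⟶ Y)
    (hf : IsAffineMor f.hom) : Nonempty (Chart t.hom f.hom) := by
  obtain ⟨V, qY, h₁, h₂⟩ := Y.property.atlas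
  obtain ⟨C, -⟩ := exists_chart_of_cov t.hom f.hom ht hf X.property X'.property qY ⟨h₁, h₂⟩
  exact ⟨C⟩

/-- Every pushout along a thickening and an affine morphism has cartesian atlases. -/
theorem exists_atlas {X X' Y Y' : AlgSp.Space S} {t : X ⟶ X'} (ht : IsThickMor t.hom) {f : X ⟶ Y}
    (hf : IsAffineMor f.hom) {f' : X' ⟶ Y'} {t' : Y ⟶ Y'} (hY' : IsPushout t f f' t')
    (C : Chart t.hom f.hom) :
    ∃ (V' : Over S) (a : C.U' ⟶ V') (b : C.V ⟶ V') (π : (yon S).obj V' ⟶ Y'.obj),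
      SqAtlas t.hom f.hom f'.hom t'.hom C.i C.j a b C.qX C.qX' C.qY π ∧
        IsPullback ((yon S).map a) C.qX' π f'.hom ∧ IsPullback ((yon S).map b) C.qY π t'.hom := by
  obtain ⟨Z, g, k, V', a, b, π, hZ, -, A, sqA, sqB⟩ := exists_isPushout t ht f hf C
  let e := hZ.isoIsPushout _ _ hY'
  let e' : Z.obj ≅ Y'.obj := (ObjectProperty.ι _).mapIso e
  have he : π ≫ e'.hom = π ≫ e.hom.hom := rfl
  have hg : g.hom ≫ e'.hom = f'.hom :=
    congrArg InducedCategory.Hom.hom (hZ.inl_isoIsPushout_hom _ _ hY')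
  have hk : k.hom ≫ e'.hom = t'.hom :=
    congrArg InducedCategory.Hom.hom (hZ.inr_isoIsPushout_hom _ _ hY')
  have hcov : IsCov (π ≫ e'.hom) := ⟨repWith_comp A.cov.et (repWith_isIso _),
    repWith_comp A.cov.surj (repWith_isIso _)⟩
  refine ⟨V', a, b, π ≫ e'.hom, ⟨A.tp, A.covX, A.covX', A.covY, hcov, A.wi, A.wj, ?_, ?_⟩, ?_, ?_⟩
  · rw [← Category.assoc, A.wa, Category.assoc, hg]
  · rw [← Category.assoc, A.wb, Category.assoc, hk]
  · exact sqA.of_iso (Iso.refl _) (Iso.refl _) (Iso.refl _) e' (by simp) (by simp) (by simp)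
      (by simp [hg])
  · exact sqB.of_iso (Iso.refl _) (Iso.refl _) (Iso.refl _) e' (by simp) (by simp) (by simp)
      (by simp [hk])

/-- Compatible atlases of two pushouts with cartesian maps between the pieces. -/
structure RelAtlas {X' Y Y' V U' V' : Sp S} (t' : Y ⟶ Y') (f' : X' ⟶ Y') (v : V ⟶ Y)
    (u' : U' ⟶ X') (iV : V ⟶ V') (iU' : U' ⟶ V') (v' : V' ⟶ Y') where
  Z₀ : Over S
  A₀ : Over S
  B₀ : Over S
  P₀ : Over S
  Z₁ : Over S
  A₁ : Over S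
  B₁ : Over S
  P₁ : Over S
  i₀ : Z₀ ⟶ A₀
  j₀ : Z₀ ⟶ B₀
  a₀ : A₀ ⟶ P₀
  b₀ : B₀ ⟶ P₀
  i₁ : Z₁ ⟶ A₁
  j₁ : Z₁ ⟶ B₁
  a₁ : A₁ ⟶ P₁
  b₁ : B₁ ⟶ P₁
  h₀ : Z₁ ⟶ Z₀
  f₀ : A₁ ⟶ A₀
  g₀ : B₁ ⟶ B₀
  k₀ : P₁ ⟶ P₀
  rel : Rel i₀ j₀ a₀ b₀ i₁ j₁ a₁ b₁ h₀ f₀ g₀ k₀
  qA₀ : (yon S).obj A₀ ⟶ X'
  qB₀ : (yon S).obj B₀ ⟶ Y
  π₀ : (yon S).obj P₀ ⟶ Y'
  qA₁ : (yon S).obj A₁ ⟶ U'
  qB₁ : (yon S).obj B₁ ⟶ V
  π₁ : (yon S).obj P₁ ⟶ V'
  covA₀ : IsCov qA₀
  covB₀ : IsCov qB₀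
  cov₀ : IsCov π₀
  covA₁ : IsCov qA₁
  covB₁ : IsCov qB₁
  cov₁ : IsCov π₁
  wA : qA₁ ≫ u' = (yon S).map f₀ ≫ qA₀
  wB : qB₁ ≫ v = (yon S).map g₀ ≫ qB₀
  wP : π₁ ≫ v' = (yon S).map k₀ ≫ π₀
  sqA₀ : IsPullback ((yon S).map a₀) qA₀ π₀ f'
  sqB₀ : IsPullback ((yon S).map b₀) qB₀ π₀ t'
  sqA₁ : IsPullback ((yon S).map a₁) qA₁ π₁ iU'
  sqB₁ : IsPullback ((yon S).map b₁) qB₁ π₁ iV

section

variable {X X' Y Y' U U' V V' : AlgSp.Space S} {t : X ⟶ X'} (ht : IsThickMor t.hom) {f : X ⟶ Y}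
  (hf : IsAffineMor f.hom) {f' : X' ⟶ Y'} {t' : Y ⟶ Y'} (hY' : IsPushout t f f' t') {v : V ⟶ Y}
  {u' : U' ⟶ X'} {uV : U ⟶ V} {uU' : U ⟶ U'} {uX : U ⟶ X}
  (hUV : IsPullback uV.hom uX.hom v.hom f.hom) (hUU' : IsPullback uU'.hom uX.hom u'.hom t.hom)
  {iV : V ⟶ V'} {iU' : U' ⟶ V'} (hV' : IsPushout uV uU' iV iU') {v' : V' ⟶ Y'}
  (hv'₁ : iV ≫ v' = v ≫ t') (hv'₂ : iU' ≫ v' = u' ≫ f')

include ht hf hY' hUV hUU' hV' hv'₁ hv'₂

theorem nonempty_relAtlas :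
    Nonempty (RelAtlas t'.hom f'.hom v.hom u'.hom iV.hom iU'.hom v'.hom) := by
  have htU : IsThickMor uU'.hom := repWith_of_isPullback hUU'.flip ht
  have hfU : IsAffineMor uV.hom := isAffineMor_iff_repWith.2
    (repWith_of_isPullback hUV.flip (isAffineMor_iff_repWith.1 hf))
  obtain ⟨C₀⟩ := exists_chart t ht f hf
  obtain ⟨P₀, a₀, b₀, π₀, A₀, sqA₀, sqB₀⟩ := exists_atlas ht hf hY' C₀
  -- a cover of `V` over the cover of `Y`
  obtain ⟨P, p₁, p₂, sqP⟩ : ∃ (P : Sp S) (p₁ : P ⟶ V.obj) (p₂ : P ⟶ (yon S).obj C₀.V),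
      IsPullback p₁ p₂ v.hom C₀.qY := ⟨_, _, _, IsPullback.of_hasPullback _ _⟩
  have hp₁ : IsCov p₁ := IsCov.of_isPullback sqP.flip C₀.covY
  have hP : IsAlgSpace P := isAlgSpace_of_representable V.property p₁ hp₁.et.rep
  obtain ⟨B, q, hq, hqs⟩ := hP.atlas
  obtain ⟨C, eC, hC⟩ := exists_chart_of_cov uU'.hom uV.hom htU hfU U.property U'.property (q ≫ p₁)
    ⟨repWith_comp hq hp₁.et, repWith_comp hqs hp₁.surj⟩
  obtain ⟨g₀, hg₀⟩ := (yon S).map_surjective ((yon S).map (eqToHom eC) ≫ q ≫ p₂)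
  have wB : C.qY ≫ v.hom = (yon S).map g₀ ≫ C₀.qY := by
    rw [hg₀, ← hC]; simp only [Category.assoc]; rw [sqP.w]
  obtain ⟨h₀, hh₀⟩ := (yon S).map_surjective (C₀.sqF.lift ((yon S).map (C.j ≫ g₀))
    (C.qX ≫ uX.hom) (by
      rw [Functor.map_comp, Category.assoc, ← wB, reassoc_of% C.sqF.w, hUV.w, Category.assoc]))
  have hi₀ : thick C₀.i.left := C₀.thick_i ht
  have hi₁ : thick C.i.left := C.thick_i htU
  haveI := hi₁.1
  haveI := hi₁.2
  haveI : UniversallyInjective C.i.left :=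
    (Groth.AlgSpThick.isIntegralHom_univInj_of_thick hi₁).2
  obtain ⟨w₀, hw₁, hw₂⟩ := Groth.AlgSpEt.UH.ext_exists (IsAlgSpace.yon_obj C₀.U') X'.property
    (AlgSp.isEtaleMor_of_repWith _ C₀.covX'.et) C.i (C.qX' ≫ u'.hom)
    ((yon S).map (h₀ ≫ C₀.i)) (by
      rw [Functor.map_comp, Category.assoc, C₀.sqT.w, hh₀, ← Category.assoc, C₀.sqF.lift_snd,
        reassoc_of% C.sqT.w, hUU'.w, Category.assoc])
  obtain ⟨f₀, rfl⟩ := (yon S).map_surjective w₀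
  have eX : (yon S).map h₀ ≫ C₀.qX = C.qX ≫ uX.hom := by rw [hh₀, C₀.sqF.lift_snd]
  have ej : h₀ ≫ C₀.j = C.j ≫ g₀ :=
    (yon S).map_injective (((yon S).map_comp _ _).trans (by rw [hh₀, C₀.sqF.lift_fst]))
  have ei : h₀ ≫ C₀.i = C.i ≫ f₀ := (yon S).map_injective (hw₂.symm.trans ((yon S).map_comp _ _).symm)
  have oX : IsPullback ((yon S).map C.i) ((yon S).map h₀ ≫ C₀.qX) ((yon S).map f₀ ≫ C₀.qX')
      t.hom := by
    rw [eX, hw₁]; exact C.sqT.paste_vert hUU'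
  have oY : IsPullback ((yon S).map C.j) ((yon S).map h₀ ≫ C₀.qX) ((yon S).map g₀ ≫ C₀.qY)
      f.hom := by
    rw [eX, ← wB]; exact C.sqF.paste_vert hUV
  have sqX : IsPullback C.i h₀ f₀ C₀.i := isPullback_of_yon (IsPullback.of_bot oX
    (by rw [← Functor.map_comp, ← Functor.map_comp, ei]) C₀.sqT)
  have sqY : IsPullback C.j h₀ g₀ C₀.j := isPullback_of_yon (IsPullback.of_bot oY
    (by rw [← Functor.map_comp, ← Functor.map_comp, ej]) C₀.sqF)
  obtain ⟨P₁, a₁, b₁, π₁, A₁, sqA₁, sqB₁⟩ := exists_atlas htU hfU hV'.flip C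
  let k₀ : P₁ ⟶ P₀ := A₁.tp.push.desc (f₀ ≫ a₀) (g₀ ≫ b₀) (by
    rw [← reassoc_of% ei, ← reassoc_of% ej, A₀.tp.push.w])
  have ha : a₁ ≫ k₀ = f₀ ≫ a₀ := A₁.tp.push.inl_desc _ _ _
  have hb : b₁ ≫ k₀ = g₀ ≫ b₀ := A₁.tp.push.inr_desc _ _ _
  have wP : π₁ ≫ v'.hom = (yon S).map k₀ ≫ π₀ := A₁.tp.hom_ext Y'.property
    (by
      rw [reassoc_of% A₁.wa, ← Functor.map_comp_assoc, ha, Functor.map_comp, Category.assoc, A₀.wa,
        show iU'.hom ≫ v'.hom = u'.hom ≫ f'.hom from congrArg InducedCategory.Hom.hom hv'₂,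
        reassoc_of% hw₁])
    (by
      rw [reassoc_of% A₁.wb, ← Functor.map_comp_assoc, hb, Functor.map_comp, Category.assoc, A₀.wb,
        show iV.hom ≫ v'.hom = v.hom ≫ t'.hom from congrArg InducedCategory.Hom.hom hv'₁,
        reassoc_of% wB])
  exact ⟨⟨_, _, _, P₀, _, _, _, P₁, C₀.i, C₀.j, a₀, b₀, C.i, C.j, a₁, b₁, h₀, f₀, g₀, k₀,
    ⟨A₀.tp, A₁.tp, sqX.flip, sqY.flip, ha, hb⟩, C₀.qX', C₀.qY, π₀, C.qX', C.qY, π₁, C₀.covX',
    C₀.covY, A₀.cov, C.covX', C.covY, A₁.cov, hw₁.symm, wB, wP, sqA₀, sqB₀, sqA₁, sqB₁⟩⟩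

end

namespace RelAtlas

variable {X' Y Y' V U' V' : Sp S} {t' : Y ⟶ Y'} {f' : X' ⟶ Y'} {v : V ⟶ Y}
  {u' : U' ⟶ X'} {iV : V ⟶ V'} {iU' : U' ⟶ V'} {v' : V' ⟶ Y'}

theorem locP_left (R : RelAtlas t' f' v u' iV iU' v') (P : MorphismProperty Scheme.{u})
    [Groth.AlgSpBasic.EtaleLocal P] (hV : IsAlgSpace V) (hY : IsAlgSpace Y) :
    LocP P v ↔ P R.g₀.left :=
  ⟨fun h => h R.qB₁ R.qB₀ R.g₀ R.covB₁.et R.covB₀.et R.wB,
    locP_of_chart hV.diag hY.diag R.covB₁.et R.covB₁.surj R.covB₀.et R.wB⟩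

theorem locP_right (R : RelAtlas t' f' v u' iV iU' v') (P : MorphismProperty Scheme.{u})
    [Groth.AlgSpBasic.EtaleLocal P] (hU : IsAlgSpace U') (hX : IsAlgSpace X') :
    LocP P u' ↔ P R.f₀.left :=
  ⟨fun h => h R.qA₁ R.qA₀ R.f₀ R.covA₁.et R.covA₀.et R.wA,
    locP_of_chart hU.diag hX.diag R.covA₁.et R.covA₁.surj R.covA₀.et R.wA⟩

theorem locP_mid (R : RelAtlas t' f' v u' iV iU' v') (P : MorphismProperty Scheme.{u})
    [Groth.AlgSpBasic.EtaleLocal P] (hV : IsAlgSpace V') (hY : IsAlgSpace Y') :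
    LocP P v' ↔ P R.k₀.left :=
  ⟨fun h => h R.π₁ R.π₀ R.k₀ R.cov₁.et R.cov₀.et R.wP,
    locP_of_chart hV.diag hY.diag R.cov₁.et R.cov₁.surj R.cov₀.et R.wP⟩

theorem surjective_cov {F : Sp S} {W : Over S} {q : (yon S).obj W ⟶ F} (h : IsCov q) :
    IsSurjectiveMor q := fun d => by
  obtain ⟨u, rfl⟩ := surjective_ofPt_of_repWith h.surj d
  exact ⟨Points.ofScheme _ u, (ofPt_eq_map _ _).symm⟩

theorem isPullback_left (R : RelAtlas t' f' v u' iV iU' v') (hV' : IsAlgSpace V')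
    (w : iV ≫ v' = v ≫ t') : IsPullback iV v v' t' := by
  refine (isPullback_of_etale_surjective (IsAlgSpace.yon_obj R.P₁) hV' R.sqB₁.flip w ?_
    (surjective_cov R.cov₁) (AlgSp.isEtaleMor_of_repWith _ R.cov₁.et)).flip
  rw [R.wB, R.wP]
  exact (R.rel.isPullback_inr.map (yon S)).paste_horiz R.sqB₀.flip

theorem isPullback_right (R : RelAtlas t' f' v u' iV iU' v') (hV' : IsAlgSpace V')
    (w : iU' ≫ v' = u' ≫ f') : IsPullback iU' u' v' f' := by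
  refine (isPullback_of_etale_surjective (IsAlgSpace.yon_obj R.P₁) hV' R.sqA₁.flip w ?_
    (surjective_cov R.cov₁) (AlgSp.isEtaleMor_of_repWith _ R.cov₁.et)).flip
  rw [R.wA, R.wP]
  exact (R.rel.isPullback_inl.map (yon S)).paste_horiz R.sqA₀.flip

end RelAtlas

/-- Flat spaces over a pushout are pushouts of their restrictions. -/
theorem isPushout_restrictions {X X' Y Y' W' WY WX' WX : AlgSp.Space S} {t : X ⟶ X'}
    (ht : IsThickMor t.hom) {f : X ⟶ Y} (hf : IsAffineMor f.hom) {f' : X' ⟶ Y'} {t' : Y ⟶ Y'}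
    (hY' : IsPushout t f f' t') {w : W' ⟶ Y'} (hw : LocP @Flat w.hom) {aY : WY ⟶ W'}
    {bY : WY ⟶ Y} (hWY : IsPullback aY.hom bY.hom w.hom t'.hom) {aX' : WX' ⟶ W'}
    {bX' : WX' ⟶ X'} (hWX' : IsPullback aX'.hom bX'.hom w.hom f'.hom) {cY : WX ⟶ WY}
    {cX' : WX ⟶ WX'} {bX : WX ⟶ X} (h₁ : IsPullback cY.hom bX.hom bY.hom f.hom)
    (h₂ : IsPullback cX'.hom bX.hom bX'.hom t.hom) (hcomm : cY ≫ aY = cX' ≫ aX') :
    IsPushout cY cX' aY aX' := by
  obtain ⟨C⟩ := exists_chart t ht f hf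
  obtain ⟨V', a, b, π, A, sqA, sqB⟩ := exists_atlas ht hf hY' C
  obtain ⟨P, p₁, p₂, sqP⟩ : ∃ (P : Sp S) (p₁ : P ⟶ W'.obj) (p₂ : P ⟶ (yon S).obj V'),
      IsPullback p₁ p₂ w.hom π := ⟨_, _, _, IsPullback.of_hasPullback _ _⟩
  have hp₁ : IsCov p₁ := IsCov.of_isPullback sqP.flip A.cov
  have hP : IsAlgSpace P := isAlgSpace_of_representable W'.property p₁ hp₁.et.rep
  obtain ⟨M, q, hq, hqs⟩ := hP.atlas
  obtain ⟨k, hk⟩ := (yon S).map_surjective (q ≫ p₂)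
  have hπM : IsCov (q ≫ p₁) := ⟨repWith_comp hq hp₁.et, repWith_comp hqs hp₁.surj⟩
  have wk : (q ≫ p₁) ≫ w.hom = (yon S).map k ≫ π := by
    rw [hk, Category.assoc, sqP.w, Category.assoc]
  haveI : Flat k.left := hw (q ≫ p₁) π k hπM.et A.cov.et wk
  have hA := IsPullback.of_hasPullback a k
  have hB := IsPullback.of_hasPullback b k
  have hZ := IsPullback.of_hasPullback C.i (pullback.fst a k)
  let jM : pullback C.i (pullback.fst a k) ⟶ pullback b k := hB.lift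
    (pullback.fst C.i (pullback.fst a k) ≫ C.j)
    (pullback.snd C.i (pullback.fst a k) ≫ pullback.snd a k)
    (by rw [Category.assoc, Category.assoc, ← pullback.condition, ← A.tp.push.w,
      reassoc_of% hZ.w])
  have hM := A.tp.of_flat hA hB hZ (hB.lift_fst _ _ _ : jM ≫ pullback.fst b k = _)
    (hB.lift_snd _ _ _).symm
  have oA : IsPullback ((yon S).map (pullback.snd a k)) ((yon S).map (pullback.fst a k) ≫ C.qX')
      ((q ≫ p₁) ≫ w.hom) f'.hom := by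
    rw [wk]; exact (hA.flip.map (yon S)).paste_vert sqA
  have oB : IsPullback ((yon S).map (pullback.snd b k)) ((yon S).map (pullback.fst b k) ≫ C.qY)
      ((q ≫ p₁) ≫ w.hom) t'.hom := by
    rw [wk]; exact (hB.flip.map (yon S)).paste_vert sqB
  let qA := hWX'.lift ((yon S).map (pullback.snd a k) ≫ q ≫ p₁)
    ((yon S).map (pullback.fst a k) ≫ C.qX') (by rw [Category.assoc]; exact oA.w)
  let qB := hWY.lift ((yon S).map (pullback.snd b k) ≫ q ≫ p₁)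
    ((yon S).map (pullback.fst b k) ≫ C.qY) (by rw [Category.assoc]; exact oB.w)
  have sA : IsPullback ((yon S).map (pullback.snd a k)) qA (q ≫ p₁) aX'.hom := by
    refine IsPullback.of_bot ?_ (hWX'.lift_fst _ _ _).symm hWX'
    rw [hWX'.lift_snd]
    exact oA
  have sB : IsPullback ((yon S).map (pullback.snd b k)) qB (q ≫ p₁) aY.hom := by
    refine IsPullback.of_bot ?_ (hWY.lift_fst _ _ _).symm hWY
    rw [hWY.lift_snd]
    exact oB
  have oZ : IsPullback ((yon S).map (pullback.snd C.i (pullback.fst a k)))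
      ((yon S).map (pullback.fst C.i (pullback.fst a k)) ≫ C.qX) (qA ≫ bX'.hom) t.hom := by
    rw [hWX'.lift_snd]; exact (hZ.flip.map (yon S)).paste_vert C.sqT
  let qZ := h₂.lift ((yon S).map (pullback.snd C.i (pullback.fst a k)) ≫ qA)
    ((yon S).map (pullback.fst C.i (pullback.fst a k)) ≫ C.qX) (by rw [Category.assoc]; exact oZ.w)
  have sZ : IsPullback ((yon S).map (pullback.snd C.i (pullback.fst a k))) qZ qA cX'.hom := by
    refine IsPullback.of_bot ?_ (h₂.lift_fst _ _ _).symm h₂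
    rw [h₂.lift_snd]
    exact oZ
  have hc : cX'.hom ≫ aX'.hom = cY.hom ≫ aY.hom :=
    congrArg InducedCategory.Hom.hom hcomm.symm
  have wj : (yon S).map jM ≫ qB = qZ ≫ cY.hom := by
    refine hWY.hom_ext ?_ ?_
    · rw [Category.assoc, Category.assoc, hWY.lift_fst, ← hc, ← Functor.map_comp_assoc,
        hB.lift_snd, h₂.lift_fst_assoc, Category.assoc, hWX'.lift_fst, Functor.map_comp, Category.assoc]
    · rw [Category.assoc, Category.assoc, hWY.lift_snd, ← Functor.map_comp_assoc, hB.lift_fst,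
        Functor.map_comp, Category.assoc, h₁.w, C.sqF.w, h₂.lift_snd_assoc, Category.assoc]
  have A' : SqAtlas cX'.hom cY.hom aX'.hom aY.hom (pullback.snd C.i (pullback.fst a k)) jM
      (pullback.snd a k) (pullback.snd b k) qZ qA qB (q ≫ p₁) :=
    ⟨hM, IsCov.of_isPullback sZ (IsCov.of_isPullback sA hπM), IsCov.of_isPullback sA hπM,
      IsCov.of_isPullback sB hπM, hπM, sZ.w, wj, sA.w, sB.w⟩
  exact (isPushout_of_cartesian cX' cY aX' aY A' sA sB).flip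

end Groth.AlgSp2.PushThick
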