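import Groth.Agent.SpecFerrand.AlgSpPushout
import Groth.Agent.FlatMor2.AffineThickening
import Groth.Agent.SGA7.ThickPushout
import Groth.Prelude.Def_AlgSpInf

/-!
# Pushouts of schemes over a base along a thickening and an affine morphism
-/

set_option autoImplicit false
set_option backward.isDefEq.respectTransparency.types false
set_option linter.style.haveILetI false

universe u

open CategoryTheory CategoryTheory.Limits AlgebraicGeometry TopologicalSpace AlgSp

noncomputable section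

namespace Groth.AlgSp2.PushThick

variable {S : Scheme.{u}}

/-- Good pairs exist for a thickening and an affine morphism. -/
theorem covers {X Y Z : Scheme.{u}} (i : Z ⟶ X) (j : Z ⟶ Y) [IsClosedImmersion i] [Surjective i]
    [IsAffineHom j] : Groth.SpecFerrand.Glue.Covers i j := by
  intro y
  obtain ⟨V, hV, hyV, -⟩ := exists_isAffineOpen_mem_and_subset (x := y) (U := ⊤) trivial
  let O : X.Opens := ⟨(i '' ((j ⁻¹ᵁ V : Z.Opens) : Set Z)ᶜ)ᶜ,
    (i.isClosedEmbedding.isClosedMap _ (j ⁻¹ᵁ V).2.isClosed_compl).isOpen_compl⟩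
  have hO : i ⁻¹ᵁ O = j ⁻¹ᵁ V := by
    ext z
    refine ⟨fun hz => ?_, fun hz => ?_⟩
    · by_contra h; exact hz ⟨z, h, rfl⟩
    · rintro ⟨z', hz', e⟩; exact hz' (i.isClosedEmbedding.injective e ▸ hz)
  haveI : IsAffine (i ⁻¹ᵁ O : Scheme.{u}) := by rw [hO]; exact hV.preimage j
  haveI : IsClosedImmersion (i ∣_ O) :=
    MorphismProperty.of_isPullback (isPullback_morphismRestrict i O).flip inferInstance
  haveI : Surjective (i ∣_ O) :=
    MorphismProperty.of_isPullback (isPullback_morphismRestrict i O).flip inferInstance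
  exact ⟨⟨O, V, Groth.FlatMor2.isAffine_of_surjective_closedImmersion (i ∣_ O), hV, hO⟩, hyV⟩

/-- A pushout square of a thickening and an affine morphism. -/
structure IsTP {Z X Y P : Over S} (i : Z ⟶ X) (j : Z ⟶ Y) (a : X ⟶ P) (b : Y ⟶ P) : Prop where
  push : IsPushout i j a b
  thick : AlgSp.thick i.left
  affine : IsAffineHom j.left

namespace IsTP

variable {Z X Y P : Over S} {i : Z ⟶ X} {j : Z ⟶ Y} {a : X ⟶ P} {b : Y ⟶ P}

theorem push_left (h : IsTP i j a b) : IsPushout i.left j.left a.left b.left :=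
  h.push.map (Over.forget S)

theorem covers' (h : IsTP i j a b) : Groth.SpecFerrand.Glue.Covers i.left j.left := by
  haveI := h.thick.1; haveI := h.thick.2; haveI := h.affine
  exact covers i.left j.left

/-- Pushouts along a thickening exist. -/
theorem exists_of (i : Z ⟶ X) (j : Z ⟶ Y) (hi : AlgSp.thick i.left) [IsAffineHom j.left] :
    ∃ (P : Over S) (a : X ⟶ P) (b : Y ⟶ P),
      IsTP i j a b ∧ AlgSp.thick b.left ∧ IsPullback i j a b := by
  haveI := hi.1; haveI := hi.2
  have hpo := Groth.ThickPushout.isPushout i.left j.left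
  have hpb := Groth.ThickPushout.isPullback i.left j.left
  have hb : IsClosedImmersion (Groth.ThickPushout.inl i.left j.left) := inferInstance
  have hbs := Groth.ThickPushout.surjective_inl i.left j.left
  generalize Groth.ThickPushout.inl i.left j.left = b₀ at hpo hpb hb hbs
  generalize Groth.ThickPushout.inr i.left j.left = a₀ at hpo hpb
  let p : _ ⟶ S := hpo.desc X.hom Y.hom ((Over.w i).trans (Over.w j).symm)
  let a : X ⟶ Over.mk p := Over.homMk a₀ (hpo.inl_desc _ _ _)
  let b : Y ⟶ Over.mk p := Over.homMk b₀ (hpo.inr_desc _ _ _)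
  have w : i ≫ a = j ≫ b := Over.OverMorphism.ext hpo.w
  exact ⟨_, a, b, ⟨IsPushout.of_map (Over.forget S) w hpo, hi, inferInstance⟩, ⟨hb, ⟨hbs⟩⟩,
    IsPullback.of_map (Over.forget S) w hpb⟩

theorem mono_inr (h : IsTP i j a b) : Mono b := by
  haveI := h.thick.1; haveI := h.affine
  haveI : IsClosedImmersion (Groth.SpecFerrand.Glue.b h.covers') :=
    Groth.SpecFerrand.Glue.isClosedImmersion_b h.covers'
  let e := (Groth.SpecFerrand.Glue.isPushout h.covers').isoIsPushout _ _ h.push_left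
  have he : Groth.SpecFerrand.Glue.b h.covers' ≫ e.hom = b.left :=
    IsPushout.inr_isoIsPushout_hom _ _ _ _
  haveI : Mono b.left := he ▸ inferInstance
  exact (Over.forget S).mono_of_mono_map (f := b) this

/-- Maps out of a pushout into an algebraic space are determined on the two pieces. -/
theorem hom_ext (h : IsTP i j a b) {F : Sp S} (hF : IsAlgSpace F) {u v : (yon S).obj P ⟶ F}
    (hX : (yon S).map a ≫ u = (yon S).map a ≫ v) (hY : (yon S).map b ≫ u = (yon S).map b ≫ v) :
    u = v :=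
  Groth.SpecFerrand.AlgSpPush.hom_ext_yon h.push ⟨F, hF⟩ hX hY

/-- Maps into an algebraic space glue over a pushout. -/
theorem exists_desc (h : IsTP i j a b) {F : Sp S} (hF : IsAlgSpace F)
    (g : (yon S).obj X ⟶ F) (k : (yon S).obj Y ⟶ F)
    (w : (yon S).map i ≫ g = (yon S).map j ≫ k) :
    ∃ τ : (yon S).obj P ⟶ F, (yon S).map a ≫ τ = g ∧ (yon S).map b ≫ τ = k := by
  haveI := h.thick.1; haveI := h.thick.2; haveI := h.affine
  refine Groth.SpecFerrand.AlgSpPush.exists_desc h.covers' ?_ h.push ⟨F, hF⟩ g k w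
  intro X₁ Y₁ Z₁ f g h i' j' _ _ _ _ hX hY
  haveI : IsClosedImmersion i' := MorphismProperty.of_isPullback hX inferInstance
  haveI : Surjective i' := MorphismProperty.of_isPullback hX inferInstance
  haveI : IsAffineHom j' := MorphismProperty.of_isPullback hY inferInstance
  exact covers i' j'

/-- The pieces cover the pushout. -/
theorem surjective_inr (h : IsTP i j a b) : Surjective b.left := by
  haveI := h.thick.1; haveI := h.thick.2; haveI := h.affine
  constructor
  intro x
  let e := (Groth.SpecFerrand.Glue.isPushout h.covers').isoIsPushout _ _ h.push_left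
  have hb : Groth.SpecFerrand.Glue.b h.covers' ≫ e.hom = b.left :=
    IsPushout.inr_isoIsPushout_hom _ _ _ _
  have ha : Groth.SpecFerrand.Glue.a h.covers' ≫ e.hom = a.left :=
    IsPushout.inl_isoIsPushout_hom _ _ _ _
  have hx : e.hom (e.inv x) = x := by
    rw [← Scheme.Hom.comp_apply, e.inv_hom_id]; rfl
  rcases Groth.SpecFerrand.Glue.jointly_surjective_ab h.covers' (e.inv x) with ⟨w, hw⟩ | ⟨w, hw⟩
  · obtain ⟨z, rfl⟩ := i.left.surjective w
    refine ⟨j.left z, ?_⟩
    rw [← Scheme.Hom.comp_apply, ← h.push_left.w, Scheme.Hom.comp_apply, ← ha,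
      Scheme.Hom.comp_apply, hw, hx]
  · exact ⟨w, by rw [← hb, Scheme.Hom.comp_apply, hw, hx]⟩

end IsTP

/-- Two pushouts with cartesian maps between the pieces. -/
structure Rel {Z X Y P Z' X' Y' P' : Over S} (i : Z ⟶ X) (j : Z ⟶ Y) (a : X ⟶ P) (b : Y ⟶ P)
    (i' : Z' ⟶ X') (j' : Z' ⟶ Y') (a' : X' ⟶ P') (b' : Y' ⟶ P') (h : Z' ⟶ Z) (f : X' ⟶ X)
    (g : Y' ⟶ Y) (k : P' ⟶ P) : Prop where
  down : IsTP i j a b
  up : IsTP i' j' a' b'
  sqX : IsPullback h i' i f
  sqY : IsPullback h j' j g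
  ha : a' ≫ k = f ≫ a
  hb : b' ≫ k = g ≫ b

namespace Rel

variable {Z X Y P Z' X' Y' P' : Over S} {i : Z ⟶ X} {j : Z ⟶ Y} {a : X ⟶ P} {b : Y ⟶ P}
  {i' : Z' ⟶ X'} {j' : Z' ⟶ Y'} {a' : X' ⟶ P'} {b' : Y' ⟶ P'} {h : Z' ⟶ Z} {f : X' ⟶ X}
  {g : Y' ⟶ Y} {k : P' ⟶ P}

theorem left_eqs (r : Rel i j a b i' j' a' b' h f g k) :
    IsPullback h.left i'.left i.left f.left ∧ IsPullback h.left j'.left j.left g.left ∧
      a'.left ≫ k.left = f.left ≫ a.left ∧ b'.left ≫ k.left = g.left ≫ b.left :=
  ⟨Groth.AlgSpBasic.isPullback_left r.sqX, Groth.AlgSpBasic.isPullback_left r.sqY,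
    congrArg CommaMorphism.left r.ha, congrArg CommaMorphism.left r.hb⟩

theorem isPullback_inl (r : Rel i j a b i' j' a' b' h f g k) : IsPullback f a' a k := by
  haveI : IsClosedImmersion i.left := r.down.thick.1
  haveI : IsAffineHom j.left := r.down.affine
  haveI : IsClosedImmersion i'.left := r.up.thick.1
  haveI : IsAffineHom j'.left := r.up.affine
  obtain ⟨hX, hY, ha, hb⟩ := r.left_eqs
  have := Groth.SpecFerrand.isPullback_inl r.down.covers' r.down.push_left r.up.covers'
    r.up.push_left hX hY ha hb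
  exact IsPullback.of_map (Over.forget S) r.ha.symm this

theorem isPullback_inr (r : Rel i j a b i' j' a' b' h f g k) : IsPullback g b' b k := by
  haveI : IsClosedImmersion i.left := r.down.thick.1
  haveI : IsAffineHom j.left := r.down.affine
  haveI : IsClosedImmersion i'.left := r.up.thick.1
  haveI : IsAffineHom j'.left := r.up.affine
  obtain ⟨hX, hY, ha, hb⟩ := r.left_eqs
  have := Groth.SpecFerrand.isPullback_inr r.down.covers' r.down.push_left r.up.covers'
    r.up.push_left hX hY ha hb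
  exact IsPullback.of_map (Over.forget S) r.hb.symm this

theorem property_iff_pieces (r : Rel i j a b i' j' a' b' h f g k) {Q : MorphismProperty Scheme.{u}}
    {Q' : ∀ {R T : Type u} [CommRing R] [CommRing T], (R →+* T) → Prop}
    [HasRingHomProperty Q Q'] [Q.IsStableUnderComposition] [Q.ContainsIdentities]
    [Q.IsStableUnderBaseChange]
    (hQ : ∀ [IsClosedImmersion i.left] [IsAffineHom j.left] [IsClosedImmersion i'.left]
      [IsAffineHom j'.left] (ρ : Groth.SpecFerrand.RelChart i.left j.left a.left b.left i'.left j'.left a'.left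
      b'.left f.left g.left k.left), Q' ρ.β.hom → Q' ρ.α.hom → Q' ρ.ψ.hom) :
    Q k.left ↔ Q g.left ∧ Q f.left := by
  refine ⟨fun hk => ⟨MorphismProperty.of_isPullback
    (Groth.AlgSpBasic.isPullback_left r.isPullback_inr).flip hk, MorphismProperty.of_isPullback
      (Groth.AlgSpBasic.isPullback_left r.isPullback_inl).flip hk⟩, fun ⟨hg, hf⟩ => ?_⟩
  haveI : IsClosedImmersion i.left := r.down.thick.1
  haveI : IsAffineHom j.left := r.down.affine
  haveI : IsClosedImmersion i'.left := r.up.thick.1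
  haveI : IsAffineHom j'.left := r.up.affine
  obtain ⟨hX, hY, ha, hb⟩ := r.left_eqs
  refine Groth.SpecFerrand.property_of_charts (Q := Q) r.down.covers' r.down.push_left r.up.covers'
    r.up.push_left hX hY ha hb fun ρ => hQ ρ ?_ ?_
  all_goals refine (HasRingHomProperty.Spec_iff (P := Q)).1 ?_
  · refine MorphismProperty.of_isPullback (IsPullback.of_horiz_isIso_mono ⟨by simp⟩ :
      IsPullback (𝟙 _) (Spec.map ρ.β) (Spec.map ρ.β ≫ ρ.c.uY) ρ.c.uY) ?_
    rw [← ρ.hβ]
    exact Q.comp_mem _ _ (IsZariskiLocalAtSource.of_isOpenImmersion (P := Q) ρ.c'.uY) hg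
  · refine MorphismProperty.of_isPullback (IsPullback.of_horiz_isIso_mono ⟨by simp⟩ :
      IsPullback (𝟙 _) (Spec.map ρ.α) (Spec.map ρ.α ≫ ρ.c.uX) ρ.c.uX) ?_
    rw [← ρ.hα]
    exact Q.comp_mem _ _ (IsZariskiLocalAtSource.of_isOpenImmersion (P := Q) ρ.c'.uX) hf

theorem etale_iff (r : Rel i j a b i' j' a' b' h f g k) :
    Etale k.left ↔ Etale g.left ∧ Etale f.left :=
  r.property_iff_pieces (Q := @Etale) fun ρ h₁ h₂ => ρ.etale.2 ⟨h₁, h₂⟩

theorem flat_iff (r : Rel i j a b i' j' a' b' h f g k) :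
    Flat k.left ↔ Flat g.left ∧ Flat f.left :=
  r.property_iff_pieces (Q := @Flat) fun ρ h₁ h₂ => ρ.flat.2 ⟨h₁, h₂⟩

theorem smooth_iff (r : Rel i j a b i' j' a' b' h f g k) :
    Smooth k.left ↔ Smooth g.left ∧ Smooth f.left :=
  haveI : MorphismProperty.ContainsIdentities (@Smooth : MorphismProperty Scheme.{u}) :=
    ⟨fun X => (inferInstance : Smooth (𝟙 X))⟩
  r.property_iff_pieces (Q := @Smooth) fun ρ h₁ h₂ => ρ.smooth.2 ⟨h₁, h₂⟩

theorem lft_iff (r : Rel i j a b i' j' a' b' h f g k) :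
    LocallyOfFiniteType k.left ↔ LocallyOfFiniteType g.left ∧ LocallyOfFiniteType f.left :=
  r.property_iff_pieces (Q := @LocallyOfFiniteType) fun ρ h₁ h₂ => ρ.ft.2 ⟨h₁, h₂⟩

theorem lfp_of_flat (r : Rel i j a b i' j' a' b' h f g k) (hk : Flat k.left) :
    LocallyOfFinitePresentation k.left ↔
      LocallyOfFinitePresentation g.left ∧ LocallyOfFinitePresentation f.left := by
  haveI : IsClosedImmersion i.left := r.down.thick.1
  haveI : IsAffineHom j.left := r.down.affine
  haveI : IsClosedImmersion i'.left := r.up.thick.1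
  haveI : IsAffineHom j'.left := r.up.affine
  obtain ⟨hg, hf⟩ := r.flat_iff.1 hk
  haveI : MorphismProperty.ContainsIdentities
      (@LocallyOfFinitePresentation : MorphismProperty Scheme.{u}) :=
    ⟨fun X => (inferInstance : LocallyOfFinitePresentation (𝟙 X))⟩
  refine r.property_iff_pieces (Q := @LocallyOfFinitePresentation) fun ρ h₁ h₂ => ?_
  have hfl : ρ.β.hom.Flat ∧ ρ.α.hom.Flat := by
    constructor <;> refine (HasRingHomProperty.Spec_iff (P := @Flat)).1 ?_
    · refine MorphismProperty.of_isPullback (IsPullback.of_horiz_isIso_mono ⟨by simp⟩ :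
        IsPullback (𝟙 _) (Spec.map ρ.β) (Spec.map ρ.β ≫ ρ.c.uY) ρ.c.uY) ?_
      rw [← ρ.hβ]
      infer_instance
    · refine MorphismProperty.of_isPullback (IsPullback.of_horiz_isIso_mono ⟨by simp⟩ :
        IsPullback (𝟙 _) (Spec.map ρ.α) (Spec.map ρ.α ≫ ρ.c.uX) ρ.c.uX) ?_
      rw [← ρ.hα]
      infer_instance
  exact (ρ.fp.2 ⟨⟨hfl.1, h₁⟩, hfl.2, h₂⟩).2

end Rel

namespace IsTP

variable {Z X Y P : Over S} {i : Z ⟶ X} {j : Z ⟶ Y} {a : X ⟶ P} {b : Y ⟶ P}

/-- Pushouts along thickenings are stable under flat base change. -/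
theorem of_flat (hP : IsTP i j a b) {X' Y' Z' P' : Over S} {k : P' ⟶ P} [Flat k.left]
    {fX : X' ⟶ X} {fY : Y' ⟶ Y} {fZ : Z' ⟶ Z} {i' : Z' ⟶ X'} {j' : Z' ⟶ Y'} {a' : X' ⟶ P'}
    {b' : Y' ⟶ P'} (hX : IsPullback fX a' a k) (hY : IsPullback fY b' b k)
    (hi : IsPullback fZ i' i fX) (hj : j' ≫ fY = fZ ≫ j) (w : i' ≫ a' = j' ≫ b') :
    IsTP i' j' a' b' := by
  haveI := hP.thick.1; haveI := hP.affine
  have hj' : IsPullback fZ j' j fY := by
    refine IsPullback.of_bot ?_ hj.symm hY
    rw [← w, ← hP.push.w]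
    exact hi.paste_vert hX
  have hsX := Groth.AlgSpBasic.isPullback_left hX
  have hsY := Groth.AlgSpBasic.isPullback_left hY
  have hsi := Groth.AlgSpBasic.isPullback_left hi
  have hsj := Groth.AlgSpBasic.isPullback_left hj'
  refine ⟨IsPushout.of_map (Over.forget S) w ?_, MorphismProperty.of_isPullback hsi hP.thick,
    MorphismProperty.of_isPullback hsj hP.affine⟩
  refine Groth.SpecFerrand.isPushout_baseChange (r := 𝟙 P.left) (g := k.left) (fP := k.left)
    (sP := 𝟙 P'.left) (IsPullback.of_vert_isIso ⟨by simp⟩) hsX hsY hsi hsj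
    (congrArg CommaMorphism.left w) fun x => ?_
  obtain ⟨C, C', ch, W, W', φ, γ, hW, hW', hu, hw, hxu, hxW⟩ :=
    Groth.SpecFerrand.Glue.exists_chartData hP.covers' hP.push_left (r := 𝟙 P.left) (g := k.left)
      (fP := k.left) (sP := 𝟙 P'.left) (by simp) x
  refine ⟨C, C', ch, W, W', φ, γ, hW, hW', hu, hw, ch.chartExact_of_flat_left φ γ ?_, hxu, hxW⟩
  refine Groth.SpecFerrand.flat_of_comp_mono _ W ?_
  rw [← hw]
  infer_instance

end IsTP

/-- A pair of maps out of a thickening of a jointly monic pair is jointly monic, if one of them is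
etale. -/
theorem jointlyMono_of_thick {R R' V V' : Over S} {s t : R ⟶ V} {s' t' : R' ⟶ V'} (ι : R ⟶ R')
    (b : V ⟶ V') [Mono b] (hι : AlgSp.thick ι.left) [Etale s'.left]
    (ws : ι ≫ s' = s ≫ b) (wt : ι ≫ t' = t ≫ b)
    (hR : ∀ {T : Over S} (r r' : T ⟶ R), r ≫ s = r' ≫ s → r ≫ t = r' ≫ t → r = r')
    {T : Over S} (r r' : T ⟶ R') (h₁ : r ≫ s' = r' ≫ s') (h₂ : r ≫ t' = r' ≫ t') : r = r' := by
  haveI := hι.1; haveI := hι.2
  let m := pullback.lift (f := V'.hom) (g := V'.hom) s'.left t'.left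
    ((Over.w s').trans (Over.w t').symm)
  have hm₁ : m ≫ pullback.fst V'.hom V'.hom = s'.left := pullback.lift_fst _ _ _
  have hm₂ : m ≫ pullback.snd V'.hom V'.hom = t'.left := pullback.lift_snd _ _ _
  haveI : Etale (m ≫ pullback.fst V'.hom V'.hom) := by rw [hm₁]; infer_instance
  haveI : LocallyOfFiniteType m := locallyOfFiniteType_of_comp m (pullback.fst V'.hom V'.hom)
  haveI : FormallyUnramified m := FormallyUnramified.of_comp m (pullback.fst V'.hom V'.hom)
  haveI : Surjective (pullback.diagonal m) := ⟨fun w => by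
    let K := (pullback m m).residueField w
    let e : Spec K ⟶ pullback m m := (pullback m m).fromSpecResidueField w
    let p₁ := e ≫ pullback.fst m m
    let p₂ := e ≫ pullback.snd m m
    have hp : p₁ ≫ m = p₂ ≫ m := by simp only [p₁, p₂, Category.assoc, pullback.condition]
    have lift : ∀ p : Spec K ⟶ R'.left, ∃ l : Spec K ⟶ R.left, l ≫ ι.left = p := by
      intro p
      haveI : IsIso (pullback.fst p ι.left) :=
        isIso_of_isClosedImmersion_of_surjective (pullback.fst p ι.left)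
      exact ⟨CategoryTheory.inv (pullback.fst p ι.left) ≫ pullback.snd p ι.left, by
        rw [Category.assoc, ← pullback.condition, IsIso.inv_hom_id_assoc]⟩
    obtain ⟨l₁, hl₁⟩ := lift p₁
    obtain ⟨l₂, hl₂⟩ := lift p₂
    let L : Over S := Over.mk (l₁ ≫ R.hom)
    have hs : l₁ ≫ s.left ≫ b.left = l₂ ≫ s.left ≫ b.left := by
      rw [← Over.comp_left, ← ws, Over.comp_left, reassoc_of% hl₁, reassoc_of% hl₂, ← hm₁,
        reassoc_of% hp]
    have ht : l₁ ≫ t.left ≫ b.left = l₂ ≫ t.left ≫ b.left := by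
      rw [← Over.comp_left, ← wt, Over.comp_left, reassoc_of% hl₁, reassoc_of% hl₂, ← hm₂,
        reassoc_of% hp]
    let x₁ : L ⟶ R := Over.homMk l₁ rfl
    let x₂ : L ⟶ R := Over.homMk l₂ (by
      show l₂ ≫ R.hom = l₁ ≫ R.hom
      rw [← Over.w ι, reassoc_of% hl₁, reassoc_of% hl₂, ← Over.w s', ← hm₁]
      simp only [Category.assoc]
      exact (congrArg (· ≫ pullback.fst V'.hom V'.hom ≫ V'.hom) hp).symm |> fun h => by
        simpa only [p₁, p₂, Category.assoc] using h)
    have hx : x₁ = x₂ := hR x₁ x₂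
      ((cancel_mono b).1 (Over.OverMorphism.ext (by simpa [x₁, x₂] using hs)))
      ((cancel_mono b).1 (Over.OverMorphism.ext (by simpa [x₁, x₂] using ht)))
    have hpp : p₁ = p₂ := by
      rw [← hl₁, ← hl₂]
      exact congrArg (· ≫ ι.left) (congrArg CommaMorphism.left hx)
    let c : Spec K := IsLocalRing.closedPoint K
    refine ⟨p₁ c, ?_⟩
    have he : p₁ ≫ pullback.diagonal m = e := by
      apply pullback.hom_ext
      · rw [Category.assoc, pullback.diagonal_fst, Category.comp_id]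
      · rw [Category.assoc, pullback.diagonal_snd, Category.comp_id, hpp]
    rw [← Scheme.Hom.comp_apply, he]
    exact Scheme.fromSpecResidueField_apply w c⟩
  haveI : IsIso (pullback.diagonal m) :=
    (isIso_iff_isOpenImmersion_and_surjective _).2 ⟨inferInstance, inferInstance⟩
  haveI : Mono m := (pullback.isIso_diagonal_iff m).1 inferInstance
  refine Over.OverMorphism.ext ((cancel_mono m).1 (pullback.hom_ext ?_ ?_))
  · rw [Category.assoc, Category.assoc, hm₁]
    exact congrArg CommaMorphism.left h₁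
  · rw [Category.assoc, Category.assoc, hm₂]
    exact congrArg CommaMorphism.left h₂

end Groth.AlgSp2.PushThick
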