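import Groth.Agent.AlgSp2.PushThick.Scheme
import Groth.Agent.AlgSp2.InfGlue
import Groth.Agent.AlgSpBasic.RepWith
import Groth.Prelude.Def_AlgSp3

/-!
# Pushouts of algebraic spaces from atlases
-/

set_option autoImplicit false
set_option backward.isDefEq.respectTransparency.types false
set_option linter.style.haveILetI false

universe u

open CategoryTheory CategoryTheory.Limits AlgebraicGeometry AlgSp

noncomputable section

namespace Groth.AlgSp2.PushThick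

variable {S : Scheme.{u}}

/-- A covering by an etale surjective map. -/
structure IsCov {F G : Sp S} (q : F ⟶ G) : Prop where
  et : RepWith @Etale q
  surj : RepWith @Surjective q

theorem IsCov.hom_ext {F G Q : Sp S} {q : F ⟶ G} (h : IsCov q) {u v : G ⟶ Q}
    (e : q ≫ u = q ≫ v) : u = v :=
  hom_ext_of_etale q h.et h.surj e

/-- Maps out of a covered sheaf descend, the agreement being checked on the kernel pair. -/
theorem IsCov.exists_desc {G Q : Sp S} {V R : Over S} {q : (yon S).obj V ⟶ G} (h : IsCov q)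
    {s t : R ⟶ V} (sq : IsPullback ((yon S).map s) ((yon S).map t) q q) (x : (yon S).obj V ⟶ Q)
    (hx : (yon S).map s ≫ x = (yon S).map t ≫ x) : ∃ y : G ⟶ Q, q ≫ y = x := by
  refine exists_desc_of_etale q h.et h.surj x fun Z p p' e => ?_
  rw [← sq.lift_fst p p' e, Category.assoc, hx, ← Category.assoc, sq.lift_snd p p' e]

/-- An atlas of a square compatible with a pushout of schemes. -/
structure SqAtlas {X X' Y Y' : Sp S} (t : X ⟶ X') (f : X ⟶ Y) (f' : X' ⟶ Y') (t' : Y ⟶ Y')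
    {U U' V V' : Over S} (i : U ⟶ U') (j : U ⟶ V) (a : U' ⟶ V') (b : V ⟶ V')
    (qX : (yon S).obj U ⟶ X) (qX' : (yon S).obj U' ⟶ X') (qY : (yon S).obj V ⟶ Y)
    (π : (yon S).obj V' ⟶ Y') : Prop where
  tp : IsTP i j a b
  covX : IsCov qX
  covX' : IsCov qX'
  covY : IsCov qY
  cov : IsCov π
  wi : (yon S).map i ≫ qX' = qX ≫ t
  wj : (yon S).map j ≫ qY = qX ≫ f
  wa : (yon S).map a ≫ π = qX' ≫ f'
  wb : (yon S).map b ≫ π = qY ≫ t'

variable {X X' Y Y' : Sp S} {t : X ⟶ X'} {f : X ⟶ Y} {f' : X' ⟶ Y'} {t' : Y ⟶ Y'}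
  {U U' V V' : Over S} {i : U ⟶ U'} {j : U ⟶ V} {a : U' ⟶ V'} {b : V ⟶ V'}
  {qX : (yon S).obj U ⟶ X} {qX' : (yon S).obj U' ⟶ X'} {qY : (yon S).obj V ⟶ Y}
  {π : (yon S).obj V' ⟶ Y'}

theorem SqAtlas.w (A : SqAtlas t f f' t' i j a b qX qX' qY π) : t ≫ f' = f ≫ t' :=
  A.covX.hom_ext (by
    rw [← reassoc_of% A.wi, ← reassoc_of% A.wj, ← A.wa, ← A.wb, ← Functor.map_comp_assoc,
      ← Functor.map_comp_assoc, A.tp.push.w])

theorem SqAtlas.hom_ext (A : SqAtlas t f f' t' i j a b qX qX' qY π) {F : Sp S} (hF : IsAlgSpace F)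
    {u v : Y' ⟶ F} (h₁ : f' ≫ u = f' ≫ v) (h₂ : t' ≫ u = t' ≫ v) : u = v :=
  A.cov.hom_ext (A.tp.hom_ext hF (by rw [reassoc_of% A.wa, h₁, reassoc_of% A.wa])
    (by rw [reassoc_of% A.wb, h₂, reassoc_of% A.wb]))

/-- If the self intersection of the atlas is again a pushout, maps glue. -/
theorem SqAtlas.exists_desc (A : SqAtlas t f f' t' i j a b qX qX' qY π) {RX RX' RY RV : Over S}
    {iR : RX ⟶ RX'} {jR : RX ⟶ RY} {aR : RX' ⟶ RV} {bR : RY ⟶ RV} (hR : IsTP iR jR aR bR)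
    {s s' : RV ⟶ V'} {sX tX : RX' ⟶ U'} {sY tY : RY ⟶ V}
    (sq : IsPullback ((yon S).map s) ((yon S).map s') π π)
    (eX : (yon S).map sX ≫ qX' = (yon S).map tX ≫ qX')
    (eY : (yon S).map sY ≫ qY = (yon S).map tY ≫ qY)
    (h₁ : aR ≫ s = sX ≫ a) (h₂ : aR ≫ s' = tX ≫ a)
    (h₃ : bR ≫ s = sY ≫ b) (h₄ : bR ≫ s' = tY ≫ b)
    {F : Sp S} (hF : IsAlgSpace F) (g : X' ⟶ F) (h : Y ⟶ F) (w : t ≫ g = f ≫ h) :
    ∃ y : Y' ⟶ F, f' ≫ y = g ∧ t' ≫ y = h := by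
  obtain ⟨σ, hσa, hσb⟩ := A.tp.exists_desc hF (qX' ≫ g) (qY ≫ h)
    (by rw [reassoc_of% A.wi, w, reassoc_of% A.wj])
  obtain ⟨y, hy⟩ := A.cov.exists_desc sq σ (hR.hom_ext hF
    (by rw [← Functor.map_comp_assoc, h₁, ← Functor.map_comp_assoc, h₂, Functor.map_comp,
          Functor.map_comp, Category.assoc, Category.assoc, hσa, reassoc_of% eX])
    (by rw [← Functor.map_comp_assoc, h₃, ← Functor.map_comp_assoc, h₄, Functor.map_comp,
          Functor.map_comp, Category.assoc, Category.assoc, hσb, reassoc_of% eY]))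
  exact ⟨y, A.covX'.hom_ext (by rw [← reassoc_of% A.wa, hy, hσa]),
    A.covY.hom_ext (by rw [← reassoc_of% A.wb, hy, hσb])⟩

/-- A square with a compatible atlas whose self intersection is a pushout is a pushout among
algebraic spaces. -/
theorem isPushout_of_atlas {A₀ A₁ A₂ A₃ : AlgSp.Space S} (t : A₀ ⟶ A₁) (f : A₀ ⟶ A₂) (f' : A₁ ⟶ A₃)
    (t' : A₂ ⟶ A₃) {qX : (yon S).obj U ⟶ A₀.obj} {qX' : (yon S).obj U' ⟶ A₁.obj}
    {qY : (yon S).obj V ⟶ A₂.obj} {π : (yon S).obj V' ⟶ A₃.obj}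
    (A : SqAtlas t.hom f.hom f'.hom t'.hom i j a b qX qX' qY π) {RX RX' RY RV : Over S}
    {iR : RX ⟶ RX'} {jR : RX ⟶ RY} {aR : RX' ⟶ RV} {bR : RY ⟶ RV} (hR : IsTP iR jR aR bR)
    {s s' : RV ⟶ V'} {sX tX : RX' ⟶ U'} {sY tY : RY ⟶ V}
    (sq : IsPullback ((yon S).map s) ((yon S).map s') π π)
    (eX : (yon S).map sX ≫ qX' = (yon S).map tX ≫ qX')
    (eY : (yon S).map sY ≫ qY = (yon S).map tY ≫ qY)
    (h₁ : aR ≫ s = sX ≫ a) (h₂ : aR ≫ s' = tX ≫ a)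
    (h₃ : bR ≫ s = sY ≫ b) (h₄ : bR ≫ s' = tY ≫ b) : IsPushout t f f' t' := by
  have w : t ≫ f' = f ≫ t' := ObjectProperty.hom_ext _ A.w
  have key : ∀ c : PushoutCocone t f, ∃ y : A₃ ⟶ c.pt, f' ≫ y = c.inl ∧ t' ≫ y = c.inr := fun c => by
    obtain ⟨y, hy₁, hy₂⟩ := A.exists_desc hR sq eX eY h₁ h₂ h₃ h₄ c.pt.property c.inl.hom c.inr.hom
      (congrArg InducedCategory.Hom.hom c.condition)
    exact ⟨ObjectProperty.homMk y, ObjectProperty.hom_ext _ hy₁, ObjectProperty.hom_ext _ hy₂⟩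
  choose y hy₁ hy₂ using key
  refine ⟨⟨w⟩, ⟨PushoutCocone.IsColimit.mk w y hy₁ hy₂ fun c m hm₁ hm₂ => ?_⟩⟩
  exact ObjectProperty.hom_ext _ (A.hom_ext c.pt.property
    (congrArg InducedCategory.Hom.hom (hm₁.trans (hy₁ c).symm))
    (congrArg InducedCategory.Hom.hom (hm₂.trans (hy₂ c).symm)))

end Groth.AlgSp2.PushThick
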